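import Mathlib
import Cfsg.Agent.CLen.Basic
import Cfsg.Agent.Core.MinNormal
import Cfsg.Agent.Perm.Socle
import Cfsg.Agent.S0723
import Cfsg.Agent.S0493

/-!
# The composition length of a permutation group is at most `4 (n - r) / 3`
-/

set_option autoImplicit false

namespace Cfsg.Agent.CLen

open Subgroup ArithmeticFunction MulAction

universe u

/-- The number of orbits. -/
noncomputable def orb (G X : Type*) [Group G] [MulAction G X] : ℕ :=
  Nat.card (Quotient (orbitRel G X))

section

variable {G X : Type*} [Group G] [MulAction G X]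

theorem le_orb [Finite X] {R : Type*} (π : X → R) (hπ : ∀ (g : G) x, π (g • x) = π x)
    (hs : Function.Surjective π) : Nat.card R ≤ orb G X := by
  refine Nat.card_le_card_of_surjective (fun q => Quotient.liftOn' q π ?_) fun r => ?_
  · rintro a b ⟨g, rfl⟩; exact hπ g b
  · obtain ⟨x, rfl⟩ := hs r; exact ⟨Quotient.mk'' x, rfl⟩

theorem orb_le_range [Finite X] : orb G X ≤ orb (toPermHom G X).range X := by
  refine le_orb (Quotient.mk'' : X → Quotient (orbitRel G X)) ?_ Quotient.mk''_surjective
  rintro ⟨_, g, rfl⟩ x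
  exact Quotient.sound' ⟨g, rfl⟩

theorem orb_le_one [IsPretransitive G X] : orb G X ≤ 1 := by
  have : Subsingleton (Quotient (orbitRel G X)) := ⟨fun a b => by
    induction a using Quotient.inductionOn'
    induction b using Quotient.inductionOn'
    exact Quotient.sound' (exists_smul_eq G _ _)⟩
  exact Finite.card_le_one_iff_subsingleton.2 this

theorem cl_factor [Finite G] (N S : Subgroup G) [N.Normal]
    (h : ∀ g : G, ∃ s ∈ S, g⁻¹ * s ∈ N) : cl (⊤ : Subgroup G) + cl (S ⊓ N) = cl N + cl S := by
  have h1 := cl_eq_add (QuotientGroup.mk' N) ⊤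
  have h2 := cl_eq_add (QuotientGroup.mk' N) S
  have e : S.map (QuotientGroup.mk' N) = (⊤ : Subgroup G).map (QuotientGroup.mk' N) := by
    refine le_antisymm (map_mono le_top) ?_
    rintro _ ⟨g, -, rfl⟩
    obtain ⟨s, hs, hg⟩ := h g
    exact ⟨s, hs, (QuotientGroup.eq.2 hg).symm⟩
  rw [QuotientGroup.ker_mk'] at h1 h2
  rw [top_inf_eq] at h1
  rw [e] at h2; omega

theorem eq_one_of_comm [FaithfulSMul G X] {N : Subgroup G} (hN : IsPretransitive N X) {a : X}
    {s : G} (hs : s • a = a) (h : ∀ n ∈ N, s * n = n * s) : s = 1 := by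
  refine eq_of_smul_eq_smul (α := X) fun x => ?_
  obtain ⟨n, rfl⟩ := hN.exists_smul_eq a x
  rw [one_smul, Subgroup.smul_def, ← mul_smul, h n n.2, mul_smul, hs]

theorem trans_of_normal [FaithfulSMul G X] [IsPreprimitive G X] (N : Subgroup G) [N.Normal]
    (hN : N ≠ ⊥) : IsPretransitive N X := by
  refine IsQuasiPreprimitive.isPretransitive_of_normal fun e => hN ?_
  refine (eq_bot_iff_forall N).2 fun n hn => eq_of_smul_eq_smul (α := X) fun x => ?_
  have : x ∈ fixedPoints N X := e ▸ Set.mem_univ x
  rw [one_smul]; exact this ⟨n, hn⟩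

theorem card_mul_stab [Finite G] {N : Subgroup G} (hN : IsPretransitive N X) (a : X) :
    Nat.card (stabilizer N a) * Nat.card X = Nat.card N := by
  rw [← index_stabilizer_of_transitive N a, card_mul_index]

theorem factor_of_trans {N : Subgroup G} (hN : IsPretransitive N X) (a : X) (g : G) :
    ∃ s ∈ stabilizer G a, g⁻¹ * s ∈ N := by
  obtain ⟨n, hn⟩ := hN.exists_smul_eq (g⁻¹ • a) a
  refine ⟨g * (n : G)⁻¹, ?_, by simp⟩
  rw [mem_stabilizer_iff, mul_smul, ← hn, Subgroup.smul_def, inv_smul_smul, smul_inv_smul]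
  conv_rhs => rw [← Subgroup.smul_def, hn]

theorem regular_case [Finite G] [Finite X] [Nontrivial X] [FaithfulSMul G X] (N : Subgroup G)
    [N.Normal] (hN : IsPretransitive N X) (a : X) (hr : stabilizer G a ⊓ N = ⊥) :
    3 * cl (⊤ : Subgroup G) + 4 ≤ 4 * Nat.card X := by
  have h1 := cl_factor N _ (factor_of_trans hN a)
  have h2 := card_mul_stab hN a
  have e : stabilizer N a = ⊥ := (eq_bot_iff_forall _).2 fun n hn =>
    Subtype.ext ((eq_bot_iff_forall _).1 hr n ⟨hn, n.2⟩)
  rw [e, card_bot, one_mul] at h2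
  have h3 := omega_le_of_faithful' N (stabilizer G a) fun s hs h => eq_one_of_comm hN hs h
  have h4 := cl_le_omega N
  have h5 := cl_le_omega (stabilizer G a)
  have h6 := num_regular (n := Nat.card X) Finite.one_lt_card
  rw [← h2] at h3 h4
  omega

end

theorem prim_case {X : Type u} [Finite X] [Nontrivial X] (H : Subgroup (Equiv.Perm X))
    [IsPreprimitive H X] (a : X) (ih : 3 * cl (stabilizer H a) + 8 ≤ 4 * Nat.card X) :
    3 * cl (⊤ : Subgroup H) + 4 ≤ 4 * Nat.card X := by
  classical
  by_cases hreg : ∃ N : Subgroup H, N.Normal ∧ N ≠ ⊥ ∧ stabilizer H a ⊓ N = ⊥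
  · obtain ⟨N, hN, h0, hr⟩ := hreg
    exact regular_case N (trans_of_normal N h0) a hr
  by_cases hH : (⊤ : Subgroup H) = ⊥
  · have := Finite.one_lt_card (α := X)
    rw [hH, cl_bot]; omega
  obtain ⟨N, hN, h0, -, hmin⟩ := Core.exists_minimal_normal_le ⊤ hH
  have htr : IsPretransitive N X := trans_of_normal N h0
  have hC : centralizer (N : Set H) = ⊥ := by
    by_contra hC
    exact hreg ⟨_, inferInstance, hC, (eq_bot_iff_forall _).2 fun s hs =>
      eq_one_of_comm htr hs.1 fun n hn => (hs.2 n hn).symm⟩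
  have hC' : ∀ h : H, (∀ n ∈ N, h * n = n * h) → h = 1 := fun h hh =>
    (eq_bot_iff_forall _).1 hC h fun n hn => (hh n hn).symm
  have hst : stabilizer H a ⊓ N ≠ ⊥ := fun e => hreg ⟨N, hN, h0, e⟩
  obtain ⟨T, _, m, e, hT, hTc, hm, hcase⟩ := S0723.result H N h0 hmin
    (fun L hL hL0 hLm => by
      by_contra hne
      have := (Perm.commute_of_minimal_normal_ne hL0 hLm hmin hne).2
      exact hL0 ((eq_bot_iff_forall _).2 fun l hl => hC' l (this l hl)))
    (fun hc => h0 ((eq_bot_iff_forall _).2 fun n hn => hC' n fun n' hn' =>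
      congrArg Subtype.val (hc.is_comm.comm ⟨n, hn⟩ ⟨n', hn'⟩))) a
  set f : Fin m → N →* T := fun i => (Pi.evalMonoidHom (fun _ => T) i).comp e.toMonoidHom with hf
  have hfa : ∀ i n, f i n = e n i := fun _ _ => rfl
  have hfs : ∀ i, Function.Surjective (f i) := fun i t => ⟨e.symm fun _ => t, by simp [hfa]⟩
  haveI : Finite T := Finite.of_surjective _ (hfs ⟨0, hm⟩)
  have h1 := cl_factor N _ (factor_of_trans htr a)
  have h2 : cl N ≤ m := by
    rw [← cl_top_subgroup]
    simpa using cl_le_card f hfs Finset.univ ⊤ inferInstance fun x _ hx =>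
      e.injective (funext fun i => by simpa [hfa] using hx i (Finset.mem_univ i))
  have h3 : cl (stabilizer H a ⊓ N) = cl (stabilizer N a) := by
    rw [← cl_map N.subtype N.subtype_injective, ← subgroupOf_map_subtype]; rfl
  obtain ⟨t, ht⟩ := exists_ne (1 : T)
  rcases hcase with ⟨K, -, hK⟩ | ⟨k, c, hk, hc, hK⟩
  · have hKi : ∀ i, K i ≠ ⊥ := by
      intro i hi
      let L : Subgroup H := (f i).ker.map N.subtype
      have hL : normalClosure ((stabilizer H a ⊓ N : Subgroup H) : Set H) ≤ L := by
        refine (closure_le _).2 fun y hy => ?_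
        obtain ⟨x, hx, g, hg⟩ := (Group.mem_conjugatesOfSet_iff.1 hy).imp fun x hx =>
          And.intro hx.1 (isConj_iff.1 hx.2)
        obtain ⟨s, hs, hn⟩ := factor_of_trans htr a g
        have hx' : s * x * s⁻¹ ∈ N := hN.conj_mem x hx.2 s
        have hn' : g * s⁻¹ ∈ N := by simpa using hN.conj_mem _ (N.inv_mem hn) s
        have h1 : f i ⟨_, hx'⟩ = 1 := by
          have := (hK ⟨_, hx'⟩).1 (mul_mem (mul_mem hs hx.1) (inv_mem hs)) i
          rwa [hi, mem_bot] at this
        refine ⟨⟨_, hn'⟩ * ⟨_, hx'⟩ * ⟨_, hn'⟩⁻¹, ?_, ?_⟩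
        · show f i _ = 1
          rw [map_mul, map_mul, h1, map_inv]; simp
        · rw [← hg]; simp only [coe_subtype, Subgroup.coe_mul, coe_inv]; group
      rcases hmin _ normalClosure_normal (normalClosure_le_normal
        (show ((stabilizer H a ⊓ N : Subgroup H) : Set H) ⊆ N from fun x hx => hx.2)) with h | h
      · exact hst (eq_bot_iff.2 (h ▸ le_normalClosure))
      · obtain ⟨n, hn⟩ := hfs i t
        obtain ⟨n', hn', e'⟩ := hL (by rw [h]; exact n.2)
        obtain rfl : n' = n := Subtype.ext e'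
        exact ht (hn.symm.trans hn')
    have h4 := card_le_cl f Finset.univ (stabilizer N a) fun i _ => by
      obtain ⟨⟨x, hx⟩, hx1⟩ := (ne_bot_iff_exists_ne_one.1 (hKi i))
      refine ⟨e.symm (Pi.mulSingle i x), (hK _).2 fun j => ?_, ?_, fun j _ hj => ?_⟩
      · by_cases hj : j = i
        · subst hj; simpa using hx
        · simp [Pi.mulSingle_eq_of_ne hj]
      · simpa [hfa] using hx1
      · simp [hfa, Pi.mulSingle_eq_of_ne hj]
    simp only [Finset.card_univ, Fintype.card_fin] at h4
    omega
  · set s := Finset.univ.image c with hs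
    have hr : ∀ j : Fin m, ∃ i, j ∈ s → c i = j := fun j => by
      by_cases hj : j ∈ s
      · obtain ⟨i, -, hi⟩ := Finset.mem_image.1 hj; exact ⟨i, fun _ => hi⟩
      · exact ⟨j, fun h => (hj h).elim⟩
    choose r hr using hr
    have h4 := card_le_cl (fun j => f (r j)) s (stabilizer N a) fun j hj => by
      refine ⟨e.symm fun i => if c i = j then t else 1, (hK _).2 fun i i' h => by simp [h], ?_,
        fun j' hj' hne => ?_⟩
      · simpa [hfa, hr j hj] using ht
      · simp [hfa, hr j' hj', hne]
    by_cases hms : m ≤ s.card + 1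
    · omega
    have h5 : 2 * s.card ≤ m := by
      simpa using Finset.mul_card_image_le_card (f := c) Finset.univ 2 fun b hb => by
        obtain ⟨i, -, hi⟩ := Finset.mem_image.1 hb
        have hb' : Nat.card {i // c i = b} = (Finset.univ.filter fun i => c i = b).card := by
          rw [Nat.card_eq_fintype_card, Fintype.card_subtype]
        rcases hc b with h | h
        · omega
        · have : 0 < (Finset.univ.filter fun i => c i = b).card :=
            Finset.card_pos.2 ⟨i, by simpa using hi⟩
          omega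
    have h6 : Nat.card (stabilizer N a) ≤ Nat.card T ^ s.card := by
      have := Nat.card_le_card_of_injective (fun (x : stabilizer N a) (j : s) => e x (r j))
        fun x y hxy => Subtype.ext (e.injective (funext fun i => by
          have hi : c i ∈ s := Finset.mem_image_of_mem c (Finset.mem_univ i)
          rw [(hK x).1 x.2 i (r (c i)) (hr _ hi).symm, (hK y).1 y.2 i (r (c i)) (hr _ hi).symm]
          exact congrFun hxy ⟨_, hi⟩))
      simpa [Nat.card_fun] using this
    have h7 : Nat.card N = Nat.card T ^ m := by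
      rw [Nat.card_congr e.toEquiv]; simp [Nat.card_fun]
    have h8 := card_mul_stab htr a
    have h9 : 16 ≤ Nat.card T := by
      by_contra h
      have := S0493.result (G := T) (fun hc => hTc hc.isMulCommutative) (by omega)
      omega
    obtain ⟨d, hd⟩ : ∃ d, m = s.card + d := ⟨m - s.card, by omega⟩
    have h10 : Nat.card T ^ d ≤ Nat.card X := by
      refine Nat.le_of_mul_le_mul_left ?_ (show 0 < Nat.card T ^ s.card by positivity)
      rw [← pow_add, ← hd, ← h7, ← h8]
      exact Nat.mul_le_mul_right _ h6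
    have h11 : 256 ≤ Nat.card X := by
      calc 256 = 16 ^ 2 := by norm_num
        _ ≤ Nat.card T ^ 2 := Nat.pow_le_pow_left h9 2
        _ ≤ Nat.card T ^ d := Nat.pow_le_pow_right (by omega) (by omega)
        _ ≤ _ := h10
    have h12 : Nat.card N ≤ Nat.card X ^ 2 := by
      calc Nat.card N = _ := h7
        _ ≤ Nat.card T ^ (d * 2) := Nat.pow_le_pow_right (by omega) (by omega)
        _ = (Nat.card T ^ d) ^ 2 := pow_mul _ _ _
        _ ≤ _ := Nat.pow_le_pow_left h10 2
    have h13 := num_diag h11 h12 Nat.card_pos.ne'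
    have h14 := omega_le_of_faithful' N ⊤ fun h _ => hC' h
    have h15 := cl_le_omega (⊤ : Subgroup H)
    omega

/-- The induction hypothesis. -/
def IH (k : ℕ) : Prop :=
  ∀ (X : Type u) [Finite X] (H : Subgroup (Equiv.Perm X)), Nat.card H + Nat.card X < k →
    3 * cl H + 4 * orb H X ≤ 4 * Nat.card X

theorem IH.quot {k : ℕ} (ih : IH.{u} k) (G : Type*) (X : Type u) [Group G] [Finite G] [Finite X]
    [MulAction G X] (h : Nat.card G + Nat.card X < k) :
    3 * cl ((⊤ : Subgroup G).map (toPermHom G X)) + 4 * orb G X ≤ 4 * Nat.card X := by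
  rw [← MonoidHom.range_eq_map]
  have h1 : Nat.card (toPermHom G X).range ≤ Nat.card G :=
    Nat.card_le_card_of_surjective _ (toPermHom G X).rangeRestrict_surjective
  have := ih X (toPermHom G X).range (by omega)
  have := orb_le_range (G := G) (X := X)
  omega

theorem IH.faith {k : ℕ} (ih : IH.{u} k) (G : Type*) (X : Type u) [Group G] [Finite G] [Finite X]
    [MulAction G X] [FaithfulSMul G X] (h : Nat.card G + Nat.card X < k) :
    3 * cl (⊤ : Subgroup G) + 4 * orb G X ≤ 4 * Nat.card X := by
  have := ih.quot G X h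
  rwa [cl_map _ toPerm_injective] at this

theorem intrans_case {k : ℕ} (ih : IH.{u} k) {G : Type*} {X : Type u} [Group G] [Finite G]
    [Finite X] [MulAction G X] [FaithfulSMul G X] (h : Nat.card G + Nat.card X ≤ k)
    (S : SubMulAction G X) {a b : X} (ha : a ∈ S) (hb : b ∉ S) :
    3 * cl (⊤ : Subgroup G) + 4 * orb G X ≤ 4 * Nat.card X := by
  classical
  have hc : Nat.card S + Nat.card (Sᶜ : SubMulAction G X) = Nat.card X := by
    rw [← Nat.card_sum]; exact Nat.card_congr (Equiv.sumCompl (· ∈ S))
  haveI : Nonempty S := ⟨⟨a, ha⟩⟩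
  haveI : Nonempty (Sᶜ : SubMulAction G X) := ⟨⟨b, hb⟩⟩
  have p1 := Nat.card_pos (α := S)
  have p2 := Nat.card_pos (α := (Sᶜ : SubMulAction G X))
  have h1 := ih.quot G S (by omega)
  set N := (toPermHom G S).ker
  haveI : FaithfulSMul N (Sᶜ : SubMulAction G X) := ⟨fun {n n'} hn => Subtype.ext
    (eq_of_smul_eq_smul (α := X) fun x => by
      by_cases hx : x ∈ S
      · have e1 := congrArg (fun σ : Equiv.Perm S => (σ ⟨x, hx⟩ : X)) (MonoidHom.mem_ker.1 n.2)
        have e2 := congrArg (fun σ : Equiv.Perm S => (σ ⟨x, hx⟩ : X)) (MonoidHom.mem_ker.1 n'.2)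
        exact e1.trans e2.symm
      · exact congrArg Subtype.val (hn ⟨x, hx⟩))⟩
  have hN : Nat.card N ≤ Nat.card G := card_le_card_group N
  have h2 := ih.faith N (Sᶜ : SubMulAction G X) (by omega)
  have h3 : cl ⊤ = cl (⊤ ⊓ N) + _ := cl_eq_add (toPermHom G S) ⊤
  rw [top_inf_eq] at h3
  rw [cl_top_subgroup] at h2
  have h4 : orb G X ≤ orb G S + orb N (Sᶜ : SubMulAction G X) := by
    unfold orb
    rw [← Nat.card_sum]
    refine Nat.card_le_card_of_surjective (Sum.elim
      (fun q => Quotient.liftOn' q (fun x : S => (Quotient.mk'' (x : X))) ?_)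
      (fun q => Quotient.liftOn' q (fun x : (Sᶜ : SubMulAction G X) => (Quotient.mk'' (x : X))) ?_))
      fun q => ?_
    · rintro x y ⟨g, rfl⟩; exact Quotient.sound' ⟨g, rfl⟩
    · rintro x y ⟨g, rfl⟩; exact Quotient.sound' ⟨g, rfl⟩
    · induction q using Quotient.inductionOn' with
      | h x =>
        by_cases hx : x ∈ S
        · exact ⟨.inl (Quotient.mk'' ⟨x, hx⟩), rfl⟩
        · exact ⟨.inr (Quotient.mk'' ⟨x, hx⟩), rfl⟩
  omega

theorem imprim_case {k : ℕ} (ih : IH.{u} k) {G X : Type u} [Group G] [Finite G]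
    [Finite X] [MulAction G X] [FaithfulSMul G X] [IsPretransitive G X]
    (h : Nat.card G + Nat.card X ≤ k) (a : X) (L : Subgroup G) (h1 : stabilizer G a < L)
    (h2 : L ≠ ⊤) : 3 * cl (⊤ : Subgroup G) + 4 ≤ 4 * Nat.card X := by
  have e1 := index_stabilizer_of_transitive G a
  have e2 : Nat.card (G ⧸ L) < Nat.card X := by
    rw [← e1, ← index_eq_card]
    exact index_strictAnti h1
  have h3 := ih.quot G (G ⧸ L) (by omega)
  set K := (toPermHom G (G ⧸ L)).ker
  have hK : ∀ x : K, ∀ q : G ⧸ L, (x : G) • q = q := fun x q =>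
    congrArg (fun σ : Equiv.Perm (G ⧸ L) => σ q) (MonoidHom.mem_ker.1 x.2)
  have hKL : K ≠ ⊤ := fun e => h2 (eq_top_iff.2 fun g _ => by
    have := hK ⟨g, e ▸ mem_top g⟩ (1 : G)
    simpa using L.inv_mem (QuotientGroup.eq.1 this))
  have hKc : Nat.card K < Nat.card G := by
    exact lt_of_le_of_ne (card_le_card_group K) fun e => hKL (eq_top_of_card_eq K e)
  have h4 := ih.faith K X (by omega)
  rw [cl_top_subgroup] at h4
  have h5 : cl ⊤ = cl (⊤ ⊓ K) + _ := cl_eq_add (toPermHom G (G ⧸ L)) ⊤
  rw [top_inf_eq] at h5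
  choose g hg using exists_smul_eq G a
  have hgL : ∀ x (y : G), y • a = x → (g x : G ⧸ L) = y := fun x y hy =>
    QuotientGroup.eq.2 (h1.le (by rw [mem_stabilizer_iff, mul_smul, hy, inv_smul_eq_iff, hg]))
  have h6 : Nat.card (G ⧸ L) ≤ orb K X := le_orb (fun x => (g x : G ⧸ L))
    (fun y x => by
      rw [hgL _ (y * g x) (by rw [mul_smul, hg]; rfl)]
      exact hK y (g x))
    fun q => by
      induction q using QuotientGroup.induction_on with
      | H y => exact ⟨y • a, hgL _ y rfl⟩
  have h7 : 1 ≤ orb G (G ⧸ L) := by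
    simpa using le_orb (G := G) (fun _ : G ⧸ L => ()) (fun _ _ => rfl) fun _ => ⟨(1 : G), rfl⟩
  omega

theorem ih_all (k : ℕ) : IH.{u} k := by
  induction k with
  | zero => intro X _ H h; omega
  | succ k ih =>
    intro X _ H h
    classical
    rw [← cl_top_subgroup]
    rcases subsingleton_or_nontrivial X with _ | _
    · have : (⊤ : Subgroup H) = ⊥ := Subsingleton.elim _ _
      have h1 : orb H X ≤ Nat.card X := Nat.card_le_card_of_surjective _ Quotient.mk''_surjective
      rw [this, cl_bot]; omega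
    obtain ⟨a, b, hab⟩ := exists_pair_ne X
    by_cases htr : IsPretransitive H X
    swap
    · rw [isPretransitive_iff_orbit_eq_univ a] at htr
      obtain ⟨b, hb⟩ := (Set.ne_univ_iff_exists_notMem _).1 htr
      exact intrans_case ih (by omega)
        ⟨orbit H a, fun g x hx => mem_orbit_of_mem_orbit g hx⟩ (mem_orbit_self a) hb
    have ho := orb_le_one (G := H) (X := X)
    have hst : stabilizer H a ≠ ⊤ := fun e => by
      obtain ⟨g, hg⟩ := exists_smul_eq H a b
      exact hab (((e ▸ mem_top g : g ∈ stabilizer H a) : g • a = a).symm.trans hg)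
    by_cases hp : IsPreprimitive H X
    · have h1 : Nat.card (stabilizer H a) < Nat.card H :=
        lt_of_le_of_ne (card_le_card_group _) fun e => hst (eq_top_of_card_eq _ e)
      have h2 := ih.faith (stabilizer H a) X (by omega)
      have h3 : 2 ≤ orb (stabilizer H a) X := by
        simpa using le_orb (G := stabilizer H a) (fun x : X => decide (x = a))
          (fun g x => by
            have : (g • x = a) ↔ x = a := by
              constructor
              · intro h; exact (smul_left_cancel_iff g).1 (h.trans g.2.symm)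
              · rintro rfl; exact g.2
            simp [this])
          fun c => by
            cases c
            · exact ⟨b, by simp [hab.symm]⟩
            · exact ⟨a, by simp⟩
      rw [cl_top_subgroup] at h2
      have := prim_case H a (by omega)
      omega
    · rw [← isCoatom_stabilizer_iff_preprimitive H a] at hp
      obtain ⟨L, h1, h2⟩ : ∃ L, stabilizer H a < L ∧ L ≠ ⊤ := by
        by_contra! hc
        exact hp ⟨hst, hc⟩
      have := imprim_case ih (by omega) a L h1 h2
      omega

theorem cl_le (G X : Type*) [Group G] [Finite G] [Finite X] [MulAction G X] [FaithfulSMul G X] :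
    3 * cl (⊤ : Subgroup G) + 4 * orb G X ≤ 4 * Nat.card X :=
  (ih_all _).faith G X (Nat.lt_succ_self _)

end Cfsg.Agent.CLen
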